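import Groth.Agent.AlgSp.K405.FinAlgFlat
import Groth.Agent.AlgSp.K594.FormalAlg

/-!
# Formal algebras over a finite cover (job S10672, node A)
-/

set_option autoImplicit false
universe u

open TensorProduct CategoryTheory

namespace K405.FinAlg

open K405.FinAlgLim K405.FinAlgFlat

/-- Faithful flatness on localizations is stable under base change. -/
theorem faithfullyFlat_baseChange {B L D : Type u} [CommRing B] [CommRing L] [CommRing D]
    [Algebra B L] [Algebra B D] (f : B)
    (h0 : Module.FaithfullyFlat (Localization.Away f) (Localization.Away f ⊗[B] D)) :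
    Module.FaithfullyFlat (Localization.Away (algebraMap B L f))
      (Localization.Away (algebraMap B L f) ⊗[L] (L ⊗[B] D)) := by
  let P := Localization.Away f
  let P' := Localization.Away (algebraMap B L f)
  let _ : Algebra P P' := (IsLocalization.Away.map P P' (algebraMap B L) f).toAlgebra
  have : IsScalarTower B P P' := IsScalarTower.of_algebraMap_eq' (by
    rw [RingHom.algebraMap_toAlgebra, IsLocalization.Away.map, IsLocalization.map_comp]
    exact IsScalarTower.algebraMap_eq B L P')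
  have h1 : Module.FaithfullyFlat P' (P' ⊗[P] (P ⊗[B] D)) := inferInstance
  have e1 : P' ⊗[P] (P ⊗[B] D) ≃ₗ[P'] P' ⊗[B] D :=
    TensorProduct.AlgebraTensorModule.cancelBaseChange B P P' P' D
  have e2 : P' ⊗[L] (L ⊗[B] D) ≃ₗ[P'] P' ⊗[B] D :=
    TensorProduct.AlgebraTensorModule.cancelBaseChange B L P' P' D
  exact Module.FaithfullyFlat.of_linearEquiv _ _ (e2.trans e1.symm)

section core

variable {L D : Type u} [CommRing L] [IsNoetherianRing L] [CommRing D] [Algebra L D]
  [Module.Finite L D] (t : Set L)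
  (ht : ∀ f ∈ t, Module.FaithfullyFlat (Localization.Away f) (Localization.Away f ⊗[L] D))

include ht

omit [Module.Finite L D] in
/-- The kernel meets a large power of the ideal trivially. -/
theorem exists_inf_ker : ∃ m₀ : ℕ, ∀ m, m₀ ≤ m → ∀ x ∈ (Ideal.span t) ^ m,
    algebraMap L D x = 0 → x = 0 := by
  obtain ⟨m₀, h⟩ := exists_artin_rees (LinearMap.ker (Algebra.linearMap L D)) (⊥ : Submodule L L) t
    fun x hx f hf => by
      obtain ⟨N, hN⟩ := exists_pow_mul_eq_zero D f (ht f hf) x hx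
      exact ⟨N, hN⟩
  refine ⟨m₀, fun m hm x hx hx0 => ?_⟩
  have h1 := h 0 m (by omega) ⟨by rwa [Ideal.smul_top_eq_map, Algebra.algebraMap_self, Ideal.map_id], hx0⟩
  rw [Submodule.smul_bot] at h1
  exact h1

omit [IsNoetherianRing L] [Module.Finite L D] ht in
theorem smul_top_eq (I : Ideal L) (x : D) :
    x ∈ I • (⊤ : Submodule L D) ↔ x ∈ I.map (algebraMap L D) := by
  rw [Ideal.smul_top_eq_map]
  rfl

theorem core_left (a : Ideal L) : ∃ m₀ : ℕ, ∀ m, m₀ ≤ m → ∀ j : ℕ, ∃ n : ℕ, j ≤ n ∧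
    ∀ x : L, algebraMap L D x ∈ (a ^ (n + 1)).map (algebraMap L D) →
      x ∈ (Ideal.span t) ^ m ⊔ a ^ (n + 1) → x ∈ a ^ (j + 1) := by
  obtain ⟨m₀, hm₀⟩ := exists_inf_ker t ht
  refine ⟨m₀, fun m hm j => ?_⟩
  let q := Submodule.mkQ ((Ideal.span t) ^ m)
  let φ : L →ₗ[L] D × (L ⧸ (Ideal.span t) ^ m) := (Algebra.linearMap L D).prod q
  have hφ : Function.Injective φ := by
    rw [injective_iff_map_eq_zero]
    intro x hx
    have h1 : algebraMap L D x = 0 := congrArg Prod.fst hx
    have h2 : q x = 0 := congrArg Prod.snd hx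
    exact hm₀ m hm x ((Submodule.Quotient.mk_eq_zero _).1 h2) h1
  obtain ⟨c, hc⟩ := Ideal.exists_pow_inf_eq_pow_smul a (LinearMap.range φ)
  refine ⟨c + j, by omega, fun x hx1 hx2 => ?_⟩
  have h1 : φ x ∈ a ^ (c + j + 1) • (⊤ : Submodule L (D × (L ⧸ (Ideal.span t) ^ m))) := by
    have e1 : (algebraMap L D x, (0 : L ⧸ (Ideal.span t) ^ m)) ∈
        a ^ (c + j + 1) • (⊤ : Submodule L (D × (L ⧸ (Ideal.span t) ^ m))) := by
      have h2 := (smul_top_eq (a ^ (c + j + 1)) (algebraMap L D x)).2 hx1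
      have h3 := Submodule.mem_map_of_mem (f := LinearMap.inl L D (L ⧸ (Ideal.span t) ^ m)) h2
      rw [Submodule.map_smul''] at h3
      exact Submodule.smul_mono le_rfl le_top h3
    have e2 : ((0 : D), q x) ∈
        a ^ (c + j + 1) • (⊤ : Submodule L (D × (L ⧸ (Ideal.span t) ^ m))) := by
      obtain ⟨y, hy, z, hz, rfl⟩ := Submodule.mem_sup.1 hx2
      have h2 : q (y + z) = z • q 1 := by
        rw [map_add, show q y = 0 from (Submodule.Quotient.mk_eq_zero _).2 hy, zero_add, ← map_smul,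
          smul_eq_mul, mul_one]
      rw [h2]
      have h3 : ((0 : D), z • q 1) = z • ((0 : D), q 1) := by
        rw [Prod.smul_mk, smul_zero]
      rw [h3]
      exact Submodule.smul_mem_smul hz trivial
    have e3 : φ x = (algebraMap L D x, (0 : L ⧸ (Ideal.span t) ^ m)) + ((0 : D), q x) := by
      rw [Prod.mk_add_mk, add_zero, zero_add]
      rfl
    rw [e3]
    exact add_mem e1 e2
  have h2 : φ x ∈ a ^ (c + j + 1) • (⊤ : Submodule L (D × (L ⧸ (Ideal.span t) ^ m))) ⊓
      LinearMap.range φ := ⟨h1, x, rfl⟩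
  rw [hc _ (by omega)] at h2
  have h3 : φ x ∈ a ^ (j + 1) • LinearMap.range φ := by
    have h4 := Submodule.smul_mono le_rfl inf_le_right h2
    rwa [show c + j + 1 - c = j + 1 by omega] at h4
  rw [LinearMap.range_eq_map, ← Submodule.map_smul''] at h3
  obtain ⟨y, hy, hyx⟩ := h3
  have h4 : y = x := hφ hyx
  subst h4
  change y ∈ a ^ (j + 1) • (⊤ : Submodule L L) at hy
  rw [Ideal.smul_top_eq_map, Algebra.algebraMap_self, Ideal.map_id] at hy
  exact hy

theorem core_right : ∃ k₀ : ℕ, ∀ m k : ℕ, k₀ + m ≤ k → ∀ z : D, z ⊗ₜ[L] (1 : D) = 1 ⊗ₜ z →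
    z ∈ ((Ideal.span t) ^ k).map (algebraMap L D) →
      ∃ y ∈ (Ideal.span t) ^ m, algebraMap L D y = z := by
  let F : Submodule L D := LinearMap.eqLocus ((TensorProduct.mk L D D).flip 1)
    (TensorProduct.mk L D D 1)
  obtain ⟨k₀, hk₀⟩ := exists_artin_rees F (LinearMap.range (Algebra.linearMap L D)) t
    fun x hx f hf => exists_pow_mul_mem_range D f (ht f hf) x hx
  refine ⟨k₀, fun m k hk z hz hzk => ?_⟩
  have h1 := hk₀ m k hk ⟨(smul_top_eq _ z).2 hzk, hz⟩
  rw [LinearMap.range_eq_map, ← Submodule.map_smul''] at h1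
  obtain ⟨y, hy, hyz⟩ := h1
  refine ⟨y, ?_, hyz⟩
  change y ∈ (Ideal.span t) ^ m • (⊤ : Submodule L L) at hy
  rw [Ideal.smul_top_eq_map, Algebra.algebraMap_self, Ideal.map_id] at hy
  exact hy

end core

/-- Limits in finite algebras over complete rings, along surjections with kernels the powers. -/
theorem exists_limit {L : Type u} [CommRing L] [IsNoetherianRing L] (a : Ideal L)
    [IsAdicComplete a L] {M : Type u} [AddCommGroup M] [Module L M] [Module.Finite L M]
    (x : ℕ → M) (h : ∀ n, x (n + 1) - x n ∈ a ^ (n + 1) • (⊤ : Submodule L M)) :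
    ∃ y : M, ∀ n, y - x n ∈ a ^ (n + 1) • (⊤ : Submodule L M) := by
  have hc : IsAdicComplete a M := Groth.Agent.Ega1.LimitSystem.isAdicComplete_of_finite
  have hxx : ∀ k l, k ≤ l → x l - x k ∈ a ^ (k + 1) • (⊤ : Submodule L M) := by
    intro k l hkl
    obtain ⟨d, rfl⟩ := Nat.exists_eq_add_of_le hkl
    induction d with
    | zero => simp
    | succ d ih =>
      have h1 := ih (Nat.le_add_right _ _)
      have h2 := Submodule.smul_mono_left (N := (⊤ : Submodule L M))
        (Ideal.pow_le_pow_right (I := a) (by omega : k + 1 ≤ k + d + 1)) (h (k + d))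
      have : x (k + (d + 1)) - x k = (x (k + d + 1) - x (k + d)) + (x (k + d) - x k) := by
        rw [show k + (d + 1) = k + d + 1 from rfl]
        abel
      rw [this]
      exact add_mem h2 h1
  obtain ⟨y, hy⟩ := IsPrecomplete.prec' (I := a) x (fun {k l} hkl => by
    rw [SModEq.sub_mem]
    have h2 : x k - x l ∈ a ^ (k + 1) • (⊤ : Submodule L M) := by
      have := neg_mem (hxx k l hkl)
      rwa [neg_sub] at this
    exact Submodule.smul_mono_left (Ideal.pow_le_pow_right (Nat.le_succ k)) h2)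
  refine ⟨y, fun n => ?_⟩
  have h1 := hy (n + 1)
  rw [SModEq.sub_mem] at h1
  have h2 : y - x n = -(x (n + 1) - y) + (x (n + 1) - x n) := by abel
  rw [h2]
  exact add_mem (neg_mem h1) (h n)

end K405.FinAlg

namespace K594.FinAlg

open K405.FinAlgLim K405.FinAlgFlat K405.FinAlg

/-- Compatible systems of elements. -/
def Compat {C : ℕ → Type u} [∀ n, CommRing (C n)] (c : ∀ n, C (n + 1) →+* C n) (x : ∀ n, C n) : Prop :=
  ∀ n, c n (x (n + 1)) = x n

/-- Job statement. -/
theorem exists_const {B : Type u} [CommRing B] [IsNoetherianRing B] (I : Ideal B) (s : Set B)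
    (C : ℕ → Type u) [∀ n, CommRing (C n)] (β : ∀ n, B →+* C n) (hfin : (β 0).Finite)
    (c : ∀ n, C (n + 1) →+* C n) (hcβ : ∀ n, (c n).comp (β (n + 1)) = β n)
    (hc : ∀ n, Function.Surjective (c n)) (hck : ∀ n, RingHom.ker (c n) = (I ^ (n + 1)).map (β (n + 1)))
    (D : Type u) [CommRing D] [Algebra B D] [Module.Finite B D]
    (hD : ∀ f ∈ s, Module.FaithfullyFlat (Localization.Away f) (Localization.Away f ⊗[B] D))
    (W : ℕ → Type u) [∀ n, CommRing (W n)] (w : ∀ n, C n →+* W n) (d : ∀ n, D →+* W n)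
    (hW : ∀ n, IsPushout (CommRingCat.ofHom (β n)) (CommRingCat.ofHom (algebraMap B D)) (CommRingCat.ofHom (w n))
      (CommRingCat.ofHom (d n)))
    (e : ∀ n, W (n + 1) →+* W n) (hew : ∀ n, (e n).comp (w (n + 1)) = (w n).comp (c n))
    (hed : ∀ n, (e n).comp (d (n + 1)) = d n) 
    (R : ℕ → Type u) [∀ n, CommRing (R n)] (u v : ∀ n, W n →+* R n)
    (hR : ∀ n, IsPushout (CommRingCat.ofHom (w n)) (CommRingCat.ofHom (w n)) (CommRingCat.ofHom (u n))
      (CommRingCat.ofHom (v n))) :
    ∃ m₀, ∀ m, m₀ ≤ m →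
      (∀ j, ∃ n, j ≤ n ∧ ∀ x : ∀ n, C n, Compat c x → w n (x n) = 0 → x n ∈ ((Ideal.span s) ^ m).map (β n) → x j = 0) ∧
      ∃ k₀, ∀ k, k₀ ≤ k → ∀ (b : ∀ n, W n), Compat e b → (∀ n, u n (b n) = v n (b n)) →
        ∀ y : ∀ n, C n, (∀ n, c n (y (n + 1)) - y n ∈ ((Ideal.span s) ^ k).map (β n)) →
          (∀ n, b n - w n (y n) ∈ ((Ideal.span s) ^ k).map ((w n).comp (β n))) →
          ∃ x : ∀ n, C n, Compat c x ∧ (∀ n, w n (x n) = b n) ∧ ∀ n, x n - y n ∈ ((Ideal.span s) ^ m).map (β n) := by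
  obtain ⟨L, _, _, π, hN, hcpl, hπβ, hπc, hπs, hπk', hlift⟩ := exists_lim I β hfin c hcβ hc hck
  let a : Ideal L := I.map (algebraMap B L)
  let t : Set L := algebraMap B L '' s
  have hπk : ∀ n, RingHom.ker (π n) = a ^ (n + 1) := fun n => by rw [hπk', Ideal.map_pow]
  have hspan : ∀ k : ℕ, ((Ideal.span s) ^ k).map (algebraMap B L) = (Ideal.span t) ^ k := fun k => by
    rw [Ideal.map_pow, Ideal.map_span]
  have hmapβ : ∀ k n : ℕ, ((Ideal.span s) ^ k).map (β n) = ((Ideal.span t) ^ k).map (π n) := by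
    intro k n
    rw [← hπβ n, ← Ideal.map_map, hspan]
  -- the finite algebra over the limit
  let D' := L ⊗[B] D
  have hD' : ∀ f ∈ t, Module.FaithfullyFlat (Localization.Away f) (Localization.Away f ⊗[L] D') := by
    rintro _ ⟨f, hf, rfl⟩
    exact faithfullyFlat_baseChange f (hD f hf)
  have hδ : ∀ n, ∃ δ : D' →+* W n, (∀ x, δ (x ⊗ₜ 1) = w n (π n x)) ∧ ∀ y, δ (1 ⊗ₜ y) = d n y :=
    fun n => exists_tensor_hom ((w n).comp (π n)) (d n) (by
      rw [RingHom.comp_assoc, hπβ]
      exact congrArg CommRingCat.Hom.hom (hW n).w)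
  choose δ hδ1 hδ2 using hδ
  have hδa : ∀ n x, δ n (algebraMap L D' x) = w n (π n x) := hδ1
  have hδs : ∀ n, Function.Surjective (δ n) ∧ RingHom.ker (δ n) ≤ (a ^ (n + 1)).map (algebraMap L D') := by
    intro n
    refine of_isPushout (hW n) (π n) (hπs n) (RingHom.id D) Function.surjective_id (δ n) (hδ1 n)
      (hδ2 n) _ (fun x hx => ?_) (fun y hy => ?_) fun b => ⟨b, ?_, rfl⟩
    · rw [← RingHom.mem_ker, hπk] at hx
      exact Ideal.mem_map_of_mem (algebraMap L D') hx
    · change y = 0 at hy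
      rw [hy, TensorProduct.tmul_zero]
      exact zero_mem _
    · exact congrArg (fun φ : B →+* C n => φ b) (hπβ n)
  have hδk : ∀ n, (a ^ (n + 1)).map (algebraMap L D') ≤ RingHom.ker (δ n) := by
    intro n
    rw [Ideal.map_le_iff_le_comap]
    intro x hx
    rw [← hπk, RingHom.mem_ker] at hx
    rw [Ideal.mem_comap, RingHom.mem_ker, hδa, hx, map_zero]
  have hδe : ∀ n, (e n).comp (δ (n + 1)) = δ n := by
    intro n
    apply tensor_hom_ext
    · intro x
      rw [RingHom.comp_apply, hδ1, hδ1]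
      have h1 := congrArg (fun φ : C (n + 1) →+* W n => φ (π (n + 1) x)) (hew n)
      refine h1.trans (congrArg (w n) ?_)
      exact congrArg (fun φ : L →+* C n => φ x) (hπc n)
    · intro y
      rw [RingHom.comp_apply, hδ2, hδ2]
      exact congrArg (fun φ : D →+* W n => φ y) (hed n)
  -- the double
  have hρ : ∀ n, ∃ ρ : D' ⊗[L] D' →+* R n, (∀ x, ρ (x ⊗ₜ 1) = u n (δ n x)) ∧
      ∀ y, ρ (1 ⊗ₜ y) = v n (δ n y) :=
    fun n => exists_tensor_hom ((u n).comp (δ n)) ((v n).comp (δ n)) (by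
      ext x
      change u n (δ n (algebraMap L D' x)) = v n (δ n (algebraMap L D' x))
      rw [hδa]
      exact congrArg (fun φ : CommRingCat.of (C n) ⟶ CommRingCat.of (R n) => φ.hom (π n x)) (hR n).w)
  choose ρ hρ1 hρ2 using hρ
  have hρk : ∀ n, RingHom.ker (ρ n) ≤ (a ^ (n + 1)).map (algebraMap L (D' ⊗[L] D')) := by
    intro n
    refine (of_isPushout (hR n) (δ n) (hδs n).1 (δ n) (hδs n).1 (ρ n) (hρ1 n) (hρ2 n) _
      (fun x hx => ?_) (fun y hy => ?_) fun z => ?_).2
    · have h1 := (hδs n).2 hx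
      have h2 := Ideal.mem_map_of_mem (Algebra.TensorProduct.includeLeft : D' →ₐ[L] D' ⊗[L] D') h1
      have h3 : ((a ^ (n + 1)).map (algebraMap L D')).map
          (Algebra.TensorProduct.includeLeft : D' →ₐ[L] D' ⊗[L] D') ≤
            (a ^ (n + 1)).map (algebraMap L (D' ⊗[L] D')) := by
        rw [Ideal.map_le_iff_le_comap, Ideal.map_le_iff_le_comap]
        intro z hz
        exact Ideal.mem_map_of_mem (algebraMap L (D' ⊗[L] D')) hz
      exact h3 h2
    · have h1 := (hδs n).2 hy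
      have h2 := Ideal.mem_map_of_mem (Algebra.TensorProduct.includeRight : D' →ₐ[L] D' ⊗[L] D') h1
      have h3 : ((a ^ (n + 1)).map (algebraMap L D')).map
          (Algebra.TensorProduct.includeRight : D' →ₐ[L] D' ⊗[L] D') ≤
            (a ^ (n + 1)).map (algebraMap L (D' ⊗[L] D')) := by
        rw [Ideal.map_le_iff_le_comap, Ideal.map_le_iff_le_comap]
        intro z hz
        rw [Ideal.mem_comap, Ideal.mem_comap, AlgHom.commutes]
        exact Ideal.mem_map_of_mem (algebraMap L (D' ⊗[L] D')) hz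
      exact h3 h2
    · obtain ⟨l, rfl⟩ := hπs n z
      exact ⟨l, hδa n l, hδa n l⟩
  have haj : a ≤ Ideal.jacobson ⊥ := IsAdicComplete.le_jacobson_bot a
  obtain ⟨m₀, hm₀⟩ := core_left t hD' a
  obtain ⟨k₁, hk₁⟩ := core_right t hD'
  refine ⟨m₀, fun m hm => ⟨fun j => ?_, k₁ + m, fun k hk b hb hbuv y hy hby => ?_⟩⟩
  · obtain ⟨n, hjn, hn⟩ := hm₀ m hm j
    refine ⟨n, hjn, fun x hx hwx hxm => ?_⟩
    obtain ⟨z, hz⟩ := hlift x hx
    rw [← hz j]
    rw [← hz n] at hwx hxm
    rw [← RingHom.mem_ker, hπk]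
    refine hn z ?_ ?_
    · exact (hδs n).2 (RingHom.mem_ker.2 ((hδa n z).trans hwx))
    · rw [hmapβ, Ideal.mem_map_iff_of_surjective _ (hπs n)] at hxm
      obtain ⟨z', hz', hzz⟩ := hxm
      have h1 : z = z' + (z - z') := by ring
      rw [h1]
      refine add_mem (Ideal.mem_sup_left hz') (Ideal.mem_sup_right ?_)
      rw [← hπk, RingHom.mem_ker, map_sub, hzz, sub_self]
  · have hkm : m ≤ k := by omega
    -- the limit of `b`
    choose bb hbb using fun n => (hδs n).1 (b n)
    obtain ⟨b', hb'⟩ := exists_limit a bb (fun n => by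
      rw [smul_top_eq]
      refine (hδs n).2 ?_
      rw [RingHom.mem_ker, map_sub, hbb, sub_eq_zero]
      have h1 := congrArg (fun φ : D' →+* W n => φ (bb (n + 1))) (hδe n)
      refine h1.symm.trans ?_
      change e n (δ (n + 1) (bb (n + 1))) = b n
      rw [hbb, hb n])
    have hb'' : ∀ n, δ n b' = b n := by
      intro n
      have h1 := hδk n ((smul_top_eq _ _).1 (hb' n))
      rw [RingHom.mem_ker, map_sub, hbb, sub_eq_zero] at h1
      exact h1
    -- `b'` is in the equalizer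
    have hbF : b' ⊗ₜ[L] (1 : D') = 1 ⊗ₜ b' := by
      rw [← sub_eq_zero]
      have h1 : b' ⊗ₜ[L] (1 : D') - 1 ⊗ₜ b' ∈ (⊥ : Ideal (D' ⊗[L] D')) := by
        refine K594.FormalAlg.mem_of_forall_map haj ⊥ _ fun n => Ideal.mem_sup_right ?_
        refine hρk n ?_
        rw [RingHom.mem_ker, map_sub, hρ1, hρ2, hb'', hbuv, sub_self]
      exact h1
    -- the limit of `y`
    choose yy hyy using fun n => hπs n (y n)
    let J : Ideal L := (Ideal.span t) ^ k
    obtain ⟨y₁, hy₁⟩ := exists_limit a (fun n => J.mkQ (yy n)) (fun n => by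
      have h1 : yy (n + 1) - yy n ∈ J ⊔ a ^ (n + 1) := by
        have h2 := hy n
        rw [hmapβ, Ideal.mem_map_iff_of_surjective _ (hπs n)] at h2
        obtain ⟨z, hz, hzz⟩ := h2
        have h3 : yy (n + 1) - yy n = z + (yy (n + 1) - yy n - z) := by ring
        rw [h3]
        refine add_mem (Ideal.mem_sup_left hz) (Ideal.mem_sup_right ?_)
        rw [← hπk, RingHom.mem_ker, map_sub, map_sub, hzz, hyy]
        have h4 : π n (yy (n + 1)) = c n (y (n + 1)) := by
          rw [← hyy (n + 1)]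
          exact (congrArg (fun φ : L →+* C n => φ (yy (n + 1))) (hπc n)).symm
        rw [h4]
        ring
      obtain ⟨p, hp, q, hq, hpq⟩ := Submodule.mem_sup.1 h1
      change J.mkQ (yy (n + 1)) - J.mkQ (yy n) ∈ _
      rw [← map_sub, ← hpq, map_add, show J.mkQ p = 0 from (Submodule.Quotient.mk_eq_zero J).2 hp,
        zero_add]
      have h5 : J.mkQ q = q • J.mkQ 1 := by rw [← map_smul, smul_eq_mul, mul_one]
      rw [h5]
      exact Submodule.smul_mem_smul hq trivial)
    obtain ⟨y', rfl⟩ := J.mkQ_surjective y₁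
    have hy' : ∀ n, π n y' - y n ∈ ((Ideal.span t) ^ k).map (π n) := by
      intro n
      have h1 := hy₁ n
      rw [← map_sub] at h1
      have h2 : J.mkQ (y' - yy n) ∈ (a ^ (n + 1)).map (algebraMap L (L ⧸ J)) :=
        (smul_top_eq _ _).1 h1
      rw [show algebraMap L (L ⧸ J) = Ideal.Quotient.mk J from rfl,
        Ideal.mem_map_iff_of_surjective _ Ideal.Quotient.mk_surjective] at h2
      obtain ⟨q, hq, hqq⟩ := h2
      have h3 : (y' - yy n) - q ∈ J := by
        rw [← Ideal.Quotient.eq]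
        exact hqq.symm
      have h4 := Ideal.mem_map_of_mem (π n) h3
      rw [map_sub, map_sub, hyy] at h4
      rw [← hπk, RingHom.mem_ker] at hq
      rw [hq, sub_zero] at h4
      exact h4
    -- the difference
    have hz1 : b' - algebraMap L D' y' ∈ ((Ideal.span t) ^ k).map (algebraMap L D') := by
      refine K594.FormalAlg.mem_of_forall_map haj _ _ fun n => ?_
      have h1 : δ n (b' - algebraMap L D' y') ∈ (((Ideal.span t) ^ k).map (algebraMap L D')).map (δ n) := by
        have h0 : (δ n).comp (algebraMap L D') = (w n).comp (π n) := RingHom.ext fun x => hδa n x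
        rw [Ideal.map_map, h0, map_sub, hb'', hδa]
        have h2 := hby n
        rw [← hπβ n, ← RingHom.comp_assoc, ← Ideal.map_map, hspan] at h2
        have h3 : b n - w n (π n y') = (b n - w n (y n)) - w n (π n y' - y n) := by
          rw [map_sub]
          ring
        rw [h3]
        refine sub_mem h2 ?_
        rw [← Ideal.map_map]
        exact Ideal.mem_map_of_mem (w n) (hy' n)
      rw [Ideal.mem_map_iff_of_surjective _ (hδs n).1] at h1
      obtain ⟨p, hp, hpp⟩ := h1
      have h3 : b' - algebraMap L D' y' = p + (b' - algebraMap L D' y' - p) := by ring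
      rw [h3]
      refine add_mem (Ideal.mem_sup_left hp) (Ideal.mem_sup_right ((hδs n).2 ?_))
      rw [RingHom.mem_ker, map_sub, hpp, sub_self]
    have hz2 : (b' - algebraMap L D' y') ⊗ₜ[L] (1 : D') = 1 ⊗ₜ (b' - algebraMap L D' y') := by
      rw [TensorProduct.sub_tmul, TensorProduct.tmul_sub, hbF]
      congr 1
      rw [Algebra.algebraMap_eq_smul_one, TensorProduct.smul_tmul]
    obtain ⟨z, hz, hzz⟩ := hk₁ m k hk _ hz2 hz1
    refine ⟨fun n => π n (y' + z), fun n => ?_, fun n => ?_, fun n => ?_⟩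
    · exact congrArg (fun φ : L →+* C n => φ (y' + z)) (hπc n)
    · change w n (π n (y' + z)) = b n
      rw [← hδa, map_add, hzz, add_sub_cancel, hb'']
    · change π n (y' + z) - y n ∈ _
      rw [map_add, hmapβ]
      have h3 : π n y' + π n z - y n = (π n y' - y n) + π n z := by ring
      rw [h3]
      exact add_mem (Ideal.map_mono (Ideal.pow_le_pow_right hkm) (hy' n)) (Ideal.mem_map_of_mem _ hz)

end K594.FinAlg
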