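import Groth.Agent.AlgSp.K405.FinAlgLim
import Mathlib.RingTheory.Filtration
import Mathlib.RingTheory.Ideal.Colon
import Mathlib.RingTheory.TensorProduct.IncludeLeftSubRight
import Mathlib.RingTheory.Flat.Equalizer

/-!
# Algebras which are faithfully flat after inverting elements

Let `D` be an `L`-algebra which is faithfully flat over `L_f` for `f ∈ t`.  Elements of the kernel of `L → D` are
killed by powers of `f`, elements of `D` with equal images in `D ⊗ D` come from `L` after multiplication by powers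
of `f`.
-/

set_option autoImplicit false
universe u

open TensorProduct

namespace K405.FinAlgFlat

open K405.FinAlgLim

section

variable {L : Type u} [CommRing L] (D : Type u) [CommRing D] [Algebra L D]

theorem exists_pow_mul_eq_zero (f : L)
    (hf : Module.FaithfullyFlat (Localization.Away f) (Localization.Away f ⊗[L] D)) (x : L)
    (hx : algebraMap L D x = 0) : ∃ N : ℕ, f ^ N * x = 0 := by
  let Lf := Localization.Away f
  have h1 : algebraMap Lf (Lf ⊗[L] D) (algebraMap L Lf x) = 0 := by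
    rw [← IsScalarTower.algebraMap_apply]
    have := (Algebra.TensorProduct.includeRight : D →ₐ[L] Lf ⊗[L] D).commutes x
    rw [← this, hx, map_zero]
  have h2 : algebraMap L Lf x = 0 := by
    have h3 : algebraMap L Lf x ∈ ((⊥ : Ideal Lf).map (algebraMap Lf (Lf ⊗[L] D))).comap
        (algebraMap Lf (Lf ⊗[L] D)) := by
      rw [Ideal.mem_comap, h1]
      exact zero_mem _
    rw [Ideal.comap_map_eq_self_of_faithfullyFlat] at h3
    exact h3
  rw [IsLocalization.map_eq_zero_iff (Submonoid.powers f)] at h2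
  obtain ⟨⟨_, ⟨N, rfl⟩⟩, h⟩ := h2
  exact ⟨N, h⟩

variable {D} in
theorem mem_range_of_tmul {Lf Df : Type u} [CommRing Lf] [CommRing Df] [Algebra L Lf]
    [Algebra Lf Df] [Algebra L Df] [IsScalarTower L Lf Df] [Module.FaithfullyFlat Lf Df]
    (ι : D →ₐ[L] Df) (b : D) (hb : b ⊗ₜ[L] (1 : D) = 1 ⊗ₜ b) :
    ι b ∈ Set.range (algebraMap Lf Df) := by
  let l1 : Df →ₐ[Lf] Df ⊗[Lf] Df := Algebra.TensorProduct.includeLeft
  let l2 : Df →ₐ[Lf] Df ⊗[Lf] Df := Algebra.TensorProduct.includeRight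
  let e1 : D →+* Df ⊗[Lf] Df := (l1 : Df →+* Df ⊗[Lf] Df).comp (ι : D →+* Df)
  let e2 : D →+* Df ⊗[Lf] Df := (l2 : Df →+* Df ⊗[Lf] Df).comp (ι : D →+* Df)
  have hl : e1.comp (algebraMap L D) = e2.comp (algebraMap L D) := by
    ext x
    change l1 (ι (algebraMap L D x)) = l2 (ι (algebraMap L D x))
    rw [ι.commutes, IsScalarTower.algebraMap_apply L Lf Df, l1.commutes, l2.commutes]
  obtain ⟨δ, hδ1, hδ2⟩ := exists_tensor_hom (B := L) (L := D) (D := D) e1 e2 hl
  have h1 : ι b ⊗ₜ[Lf] (1 : Df) = 1 ⊗ₜ ι b := by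
    have h2 := congrArg δ hb
    rw [hδ1, hδ2] at h2
    exact h2
  have h3 := (Algebra.IsEffective.of_faithfullyFlat Lf Df).eqLocus_includeLeft_includeRight
  rw [← h3]
  exact h1

theorem exists_pow_mul_mem_range (f : L)
    (hf : Module.FaithfullyFlat (Localization.Away f) (Localization.Away f ⊗[L] D)) (b : D)
    (hb : b ⊗ₜ[L] (1 : D) = 1 ⊗ₜ b) :
    ∃ N : ℕ, f ^ N • b ∈ LinearMap.range (Algebra.linearMap L D) := by
  let Lf := Localization.Away f
  let Df := Lf ⊗[L] D
  let ι : D →ₐ[L] Df := Algebra.TensorProduct.includeRight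
  have h2 : ι b ∈ Set.range (algebraMap Lf Df) := mem_range_of_tmul ι b hb
  obtain ⟨r, hr⟩ := h2
  obtain ⟨⟨l, ⟨_, ⟨N, rfl⟩⟩⟩, hl⟩ := IsLocalization.surj (Submonoid.powers f) r
  change r * algebraMap L Lf (f ^ N) = algebraMap L Lf l at hl
  have h3 : ι (f ^ N • b) = ι (algebraMap L D l) := by
    rw [Algebra.smul_def, map_mul, ι.commutes, ι.commutes]
    have e1 : ∀ z : L, algebraMap L Df z = algebraMap Lf Df (algebraMap L Lf z) := fun z =>
      IsScalarTower.algebraMap_apply L Lf Df z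
    rw [e1, e1, ← hl, ← hr, map_mul, mul_comm]
  have : IsLocalizedModule (Submonoid.powers f) (TensorProduct.mk L Lf D 1) :=
    (isLocalizedModule_iff_isBaseChange (Submonoid.powers f) Lf _).2 (TensorProduct.isBaseChange L D Lf)
  obtain ⟨⟨_, ⟨M, rfl⟩⟩, hM⟩ :=
    (IsLocalizedModule.eq_iff_exists (Submonoid.powers f) (TensorProduct.mk L Lf D 1)).1 h3
  change f ^ M • (f ^ N • b) = f ^ M • (algebraMap L D l) at hM
  refine ⟨M + N, f ^ M * l, ?_⟩
  rw [pow_add, mul_smul, hM, Algebra.linearMap_apply, map_mul, Algebra.smul_def]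

end

section

variable {L : Type u} [CommRing L] [IsNoetherianRing L]

/-- A submodule which is locally absorbed is absorbed by a power. -/
theorem exists_pow_smul_le {M : Type u} [AddCommGroup M] [Module L M] [Module.Finite L M]
    (F N : Submodule L M) (t : Set L) (h : ∀ x ∈ F, ∀ f ∈ t, ∃ k : ℕ, f ^ k • x ∈ N) :
    ∃ k : ℕ, (Ideal.span t) ^ k • F ≤ N := by
  have hF : F.FG := IsNoetherian.noetherian F
  have hrad : Ideal.span t ≤ (N.colon (F : Set M)).radical := by
    rw [Ideal.span_le]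
    intro f hft
    obtain ⟨S, hS⟩ := hF
    have h' : ∀ x, ∃ k : ℕ, x ∈ F → f ^ k • x ∈ N := fun x => by
      by_cases hx : x ∈ F
      · obtain ⟨k, hk⟩ := h x hx f hft
        exact ⟨k, fun _ => hk⟩
      · exact ⟨0, fun h => absurd h hx⟩
    choose k hk using h'
    refine ⟨S.sup k, ?_⟩
    rw [Submodule.mem_colon]
    have h1 : F ≤ Submodule.comap (LinearMap.lsmul L M (f ^ S.sup k)) N := by
      conv_lhs => rw [← hS]
      rw [Submodule.span_le]
      intro x hx
      have hxF : x ∈ F := by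
        rw [← hS]
        exact Submodule.subset_span hx
      change f ^ S.sup k • x ∈ N
      have h2 : k x ≤ S.sup k := Finset.le_sup hx
      obtain ⟨d, hd⟩ := Nat.exists_eq_add_of_le h2
      rw [hd, pow_add, mul_comm, mul_smul]
      exact N.smul_mem _ (hk x hxF)
    exact fun x hx => h1 hx
  obtain ⟨k, hk⟩ := Ideal.exists_pow_le_of_le_radical_of_fg hrad (Ideal.fg_of_isNoetherianRing _)
  refine ⟨k, ?_⟩
  rw [Submodule.smul_le]
  intro r hr x hx
  exact Submodule.mem_colon.1 (hk hr) x hx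

/-- Artin-Rees in absorbed form. -/
theorem exists_artin_rees {M : Type u} [AddCommGroup M] [Module L M] [Module.Finite L M]
    (F N : Submodule L M) (t : Set L) (h : ∀ x ∈ F, ∀ f ∈ t, ∃ k : ℕ, f ^ k • x ∈ N) :
    ∃ k₀ : ℕ, ∀ m k : ℕ, k₀ + m ≤ k → (Ideal.span t) ^ k • (⊤ : Submodule L M) ⊓ F ≤
      (Ideal.span t) ^ m • N := by
  obtain ⟨a, ha⟩ := exists_pow_smul_le F N t h
  obtain ⟨c, hc⟩ := Ideal.exists_pow_inf_eq_pow_smul (Ideal.span t) F
  refine ⟨a + c, fun m k hk => ?_⟩
  rw [hc k (by omega)]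
  refine (Submodule.smul_mono le_rfl inf_le_right).trans ?_
  obtain ⟨d, hd⟩ := Nat.exists_eq_add_of_le (show m + a ≤ k - c by omega)
  rw [hd]
  refine (Submodule.smul_mono_left (Ideal.pow_le_pow_right (Nat.le_add_right _ _))).trans ?_
  rw [pow_add, Submodule.mul_smul]
  exact Submodule.smul_mono le_rfl ha

end

end K405.FinAlgFlat
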