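import Groth.Agent.Ega1.LimitSystem
import Groth.Agent.Ega4A.CompleteNoeth
import Mathlib.RingTheory.AdicCompletion.AsTensorProduct
import Mathlib.RingTheory.Flat.FaithfullyFlat.Algebra
import Mathlib.RingTheory.Localization.Away.Basic
import Mathlib.Algebra.Category.Ring.Basic
import Mathlib.CategoryTheory.Limits.Shapes.Pullback.IsPullback.Basic

/-!
# Inverse limits of adic systems of rings and tensor products

* `exists_lim`: the inverse limit of an adic system of algebras over a Noetherian ring with finite first term is a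
  Noetherian adically complete ring.
* `of_isPushout`: kernels of maps between tensor products and pushouts.
-/

set_option autoImplicit false
universe u

open TensorProduct CategoryTheory

namespace K405.FinAlgLim

section Lim

variable {C : ℕ → Type u} [∀ n, CommRing (C n)]

/-- The inverse limit. -/
def Lim (c : ∀ n, C (n + 1) →+* C n) : Subring (∀ n, C n) where
  carrier := {x | ∀ n, c n (x (n + 1)) = x n}
  mul_mem' {x y} hx hy n := by
    rw [Pi.mul_apply, Pi.mul_apply, map_mul, hx n, hy n]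
  one_mem' n := by
    rw [Pi.one_apply, Pi.one_apply, map_one]
  add_mem' {x y} hx hy n := by
    rw [Pi.add_apply, Pi.add_apply, map_add, hx n, hy n]
  zero_mem' n := by
    rw [Pi.zero_apply, Pi.zero_apply, map_zero]
  neg_mem' {x} hx n := by
    rw [Pi.neg_apply, Pi.neg_apply, map_neg, hx n]

theorem mem_Lim {c : ∀ n, C (n + 1) →+* C n} {x : ∀ n, C n} :
    x ∈ Lim c ↔ ∀ n, c n (x (n + 1)) = x n := Iff.rfl

/-- The inverse limit of an adic system. -/
theorem exists_lim {B : Type u} [CommRing B] [IsNoetherianRing B] (I : Ideal B)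
    (β : ∀ n, B →+* C n) (hfin : (β 0).Finite)
    (c : ∀ n, C (n + 1) →+* C n) (hcβ : ∀ n, (c n).comp (β (n + 1)) = β n)
    (hc : ∀ n, Function.Surjective (c n))
    (hck : ∀ n, RingHom.ker (c n) = (I ^ (n + 1)).map (β (n + 1))) :
    ∃ (L : Type u) (_ : CommRing L) (_ : Algebra B L) (π : ∀ n, L →+* C n),
      IsNoetherianRing L ∧ IsAdicComplete (I.map (algebraMap B L)) L ∧
      (∀ n, (π n).comp (algebraMap B L) = β n) ∧ (∀ n, (c n).comp (π (n + 1)) = π n) ∧
      (∀ n, Function.Surjective (π n)) ∧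
      (∀ n, RingHom.ker (π n) = (I ^ (n + 1)).map (algebraMap B L)) ∧
      ∀ x : ∀ n, C n, (∀ n, c n (x (n + 1)) = x n) → ∃ y : L, ∀ n, π n y = x n := by
  have hmem : ∀ b : B, (RingHom.pi β) b ∈ Lim c := fun b n =>
    congrArg (fun φ : B →+* C n => φ b) (hcβ n)
  let _ : Algebra B (Lim c) := ((RingHom.pi β).codRestrict (Lim c) hmem).toAlgebra
  let _ : ∀ n, Algebra B (C n) := fun n => (β n).toAlgebra
  let π : ∀ n, Lim c →+* C n := fun n => (Pi.evalRingHom C n).comp (Lim c).subtype
  have hπβ : ∀ n, (π n).comp (algebraMap B (Lim c)) = β n := fun n => rfl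
  have hπc : ∀ n, (c n).comp (π (n + 1)) = π n := fun n => RingHom.ext fun x => x.2 n
  let f : ∀ n, C (n + 1) →ₗ[B] C n := fun n =>
    { toFun := c n
      map_add' := map_add (c n)
      map_smul' := fun b x => by
        rw [Algebra.smul_def, Algebra.smul_def, map_mul]
        congr 1
        exact congrArg (fun φ : B →+* C n => φ b) (hcβ n) }
  let πl : ∀ n, Lim c →ₗ[B] C n := fun n =>
    { toFun := π n
      map_add' := map_add (π n)
      map_smul' := fun b x => by
        rw [Algebra.smul_def, Algebra.smul_def, map_mul]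
        rfl }
  have hker : ∀ n, LinearMap.ker (f n) = I ^ (n + 1) • (⊤ : Submodule B (C (n + 1))) := by
    intro n
    rw [Ideal.smul_top_eq_map]
    ext x
    change c n x = 0 ↔ x ∈ (I ^ (n + 1)).map (β (n + 1))
    rw [← hck n]
    exact RingHom.mem_ker.symm
  obtain ⟨h1, h2, -⟩ := Groth.Agent.Ega1.LimitSystem.main (A := B) (I := I) (f := f) (π := πl)
    (Ideal.fg_of_isNoetherianRing I) hc hker (fun n => LinearMap.ext fun x => x.2 n)
    (fun x hx => Subtype.ext (funext hx)) (fun y hy => ⟨⟨y, hy⟩, fun n => rfl⟩)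
  have hs : ∀ n, Function.Surjective (π n) := fun n => (h2 n).1
  have hk : ∀ n, RingHom.ker (π n) = (I ^ (n + 1)).map (algebraMap B (Lim c)) := by
    intro n
    have h3 := (h2 n).2
    rw [Ideal.smul_top_eq_map] at h3
    ext x
    rw [RingHom.mem_ker]
    change πl n x = 0 ↔ _
    rw [← LinearMap.mem_ker, h3]
    rfl
  have hcpl : IsAdicComplete (I.map (algebraMap B (Lim c))) (Lim c) :=
    (IsAdicComplete.map_algebraMap_iff _ _).2 h1
  have hN0 : IsNoetherianRing (C 0) := by
    have : Module.Finite B (C 0) := hfin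
    exact IsNoetherianRing.of_finite B (C 0)
  have hN1 : IsNoetherianRing (Lim c ⧸ I.map (algebraMap B (Lim c))) := by
    have h3 := hk 0
    rw [zero_add, pow_one] at h3
    rw [← h3]
    exact isNoetherianRing_of_ringEquiv _ (RingHom.quotientKerEquivOfSurjective (hs 0)).symm
  refine ⟨Lim c, inferInstance, inferInstance, π,
    Groth.Agent.Ega4A.CompleteNoeth.isNoetherianRing_of_isAdicComplete
      (I.map (algebraMap B (Lim c))) ((Ideal.fg_of_isNoetherianRing I).map _),
    hcpl, hπβ, hπc, hs, hk, fun x hx => ⟨⟨x, hx⟩, fun n => rfl⟩⟩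

end Lim

section Tensor

/-- Ring homomorphisms out of tensor products. -/
theorem exists_tensor_hom {B L D W : Type u} [CommRing B] [CommRing L] [CommRing D] [CommRing W]
    [Algebra B L] [Algebra B D] (f : L →+* W) (g : D →+* W)
    (h : f.comp (algebraMap B L) = g.comp (algebraMap B D)) :
    ∃ δ : L ⊗[B] D →+* W, (∀ x, δ (x ⊗ₜ 1) = f x) ∧ ∀ y, δ (1 ⊗ₜ y) = g y := by
  let _ : Algebra B W := (f.comp (algebraMap B L)).toAlgebra
  let f' : L →ₐ[B] W := { f with commutes' := fun b => rfl }
  let g' : D →ₐ[B] W :=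
    { g with commutes' := fun b => (congrArg (fun φ : B →+* W => φ b) h).symm }
  refine ⟨(Algebra.TensorProduct.lift f' g' fun x y => Commute.all _ _).toRingHom,
    fun x => ?_, fun y => ?_⟩
  · change Algebra.TensorProduct.lift f' g' (fun x y => Commute.all _ _) (x ⊗ₜ 1) = f x
    rw [Algebra.TensorProduct.lift_tmul, map_one, mul_one]
    rfl
  · change Algebra.TensorProduct.lift f' g' (fun x y => Commute.all _ _) (1 ⊗ₜ y) = g y
    rw [Algebra.TensorProduct.lift_tmul, map_one, one_mul]
    rfl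

/-- Ring homomorphisms out of tensor products agree if they agree on both factors. -/
theorem tensor_hom_ext {B L D W : Type u} [CommRing B] [CommRing L] [CommRing D] [CommRing W]
    [Algebra B L] [Algebra B D] {δ δ' : L ⊗[B] D →+* W} (h1 : ∀ x, δ (x ⊗ₜ 1) = δ' (x ⊗ₜ 1))
    (h2 : ∀ y, δ (1 ⊗ₜ y) = δ' (1 ⊗ₜ y)) : δ = δ' := by
  refine RingHom.ext fun z => ?_
  induction z using TensorProduct.induction_on with
  | zero => rw [map_zero, map_zero]
  | add x y hx hy => rw [map_add, map_add, hx, hy]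
  | tmul x y =>
    have : x ⊗ₜ[B] y = (x ⊗ₜ 1) * (1 ⊗ₜ y) := by
      rw [Algebra.TensorProduct.tmul_mul_tmul, mul_one, one_mul]
    rw [this, map_mul, map_mul, h1, h2]

/-- The map from a tensor product of covers to a pushout. -/
theorem of_isPushout {A X Y P S X' Y' : Type u} [CommRing A] [CommRing X] [CommRing Y]
    [CommRing P] {f : A →+* X} {g : A →+* Y} {i : X →+* P} {j : Y →+* P}
    (h : IsPushout (CommRingCat.ofHom f) (CommRingCat.ofHom g) (CommRingCat.ofHom i)
      (CommRingCat.ofHom j)) [CommRing S] [CommRing X'] [CommRing Y'] [Algebra S X'] [Algebra S Y']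
    (p : X' →+* X) (hp : Function.Surjective p) (q : Y' →+* Y) (hq : Function.Surjective q)
    (θ : X' ⊗[S] Y' →+* P) (hθ1 : ∀ x, θ (x ⊗ₜ 1) = i (p x)) (hθ2 : ∀ y, θ (1 ⊗ₜ y) = j (q y))
    (K : Ideal (X' ⊗[S] Y')) (hK1 : ∀ x, p x = 0 → x ⊗ₜ 1 ∈ K) (hK2 : ∀ y, q y = 0 → 1 ⊗ₜ y ∈ K)
    (hS : ∀ a : A, ∃ s : S, p (algebraMap S X' s) = f a ∧ q (algebraMap S Y' s) = g a) :
    Function.Surjective θ ∧ RingHom.ker θ ≤ K := by
  have hw : i.comp f = j.comp g :=
    congrArg CommRingCat.Hom.hom h.w
  constructor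
  · -- the range contains both images
    have h1 : ∀ x, i x ∈ θ.range := fun x => by
      obtain ⟨x, rfl⟩ := hp x
      exact ⟨_, hθ1 x⟩
    have h2 : ∀ y, j y ∈ θ.range := fun y => by
      obtain ⟨y, rfl⟩ := hq y
      exact ⟨_, hθ2 y⟩
    let i' : X →+* θ.range := i.codRestrict θ.range h1
    let j' : Y →+* θ.range := j.codRestrict θ.range h2
    have hw' : CommRingCat.ofHom f ≫ CommRingCat.ofHom i' =
        CommRingCat.ofHom g ≫ CommRingCat.ofHom j' :=
      CommRingCat.hom_ext (RingHom.ext fun a =>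
        Subtype.ext (congrArg (fun φ : A →+* P => φ a) hw))
    let r : CommRingCat.of P ⟶ CommRingCat.of θ.range := h.desc _ _ hw'
    have hr : r ≫ CommRingCat.ofHom θ.range.subtype = 𝟙 _ := by
      apply h.hom_ext
      · rw [← Category.assoc, h.inl_desc, Category.comp_id]
        rfl
      · rw [← Category.assoc, h.inr_desc, Category.comp_id]
        rfl
    intro z
    have h3 : (r.hom z).1 = z :=
      congrArg (fun φ : CommRingCat.of P ⟶ CommRingCat.of P => φ.hom z) hr
    obtain ⟨t, ht⟩ := (r.hom z).2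
    exact ⟨t, ht.trans h3⟩
  · let Q := (X' ⊗[S] Y') ⧸ K
    let iX : X' →+* Q := (Ideal.Quotient.mk K).comp
      (Algebra.TensorProduct.includeLeft : X' →ₐ[S] X' ⊗[S] Y').toRingHom
    let iY : Y' →+* Q := (Ideal.Quotient.mk K).comp
      (Algebra.TensorProduct.includeRight : Y' →ₐ[S] X' ⊗[S] Y').toRingHom
    have hkX : ∀ a ∈ RingHom.ker p, iX a = 0 := fun x hx =>
      Ideal.Quotient.eq_zero_iff_mem.2 (hK1 x hx)
    have hkY : ∀ a ∈ RingHom.ker q, iY a = 0 := fun x hx =>
      Ideal.Quotient.eq_zero_iff_mem.2 (hK2 x hx)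
    let jX : X →+* Q := (Ideal.Quotient.lift (RingHom.ker p) iX hkX).comp
        (RingHom.quotientKerEquivOfSurjective hp).symm.toRingHom
    let jY : Y →+* Q := (Ideal.Quotient.lift (RingHom.ker q) iY hkY).comp
        (RingHom.quotientKerEquivOfSurjective hq).symm.toRingHom
    have hjX : ∀ x, jX (p x) = Ideal.Quotient.mk K (x ⊗ₜ 1) := by
      intro x
      have h3 : (RingHom.quotientKerEquivOfSurjective hp).symm (p x) =
          Ideal.Quotient.mk (RingHom.ker p) x := by
        rw [RingEquiv.symm_apply_eq]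
        rfl
      change Ideal.Quotient.lift (RingHom.ker p) iX hkX
        ((RingHom.quotientKerEquivOfSurjective hp).symm (p x)) = _
      rw [h3]
      rfl
    have hjY : ∀ y, jY (q y) = Ideal.Quotient.mk K (1 ⊗ₜ y) := by
      intro y
      have h3 : (RingHom.quotientKerEquivOfSurjective hq).symm (q y) =
          Ideal.Quotient.mk (RingHom.ker q) y := by
        rw [RingEquiv.symm_apply_eq]
        rfl
      change Ideal.Quotient.lift (RingHom.ker q) iY hkY
        ((RingHom.quotientKerEquivOfSurjective hq).symm (q y)) = _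
      rw [h3]
      rfl
    have hw' : CommRingCat.ofHom f ≫ CommRingCat.ofHom jX =
        CommRingCat.ofHom g ≫ CommRingCat.ofHom jY := by
      ext a
      obtain ⟨s, hs1, hs2⟩ := hS a
      change jX (f a) = jY (g a)
      rw [← hs1, ← hs2, hjX, hjY]
      congr 1
      rw [Algebra.algebraMap_eq_smul_one, Algebra.algebraMap_eq_smul_one, TensorProduct.smul_tmul]
    let r : CommRingCat.of P ⟶ CommRingCat.of Q := h.desc _ _ hw'
    have hr1 : ∀ x, r.hom (i x) = jX x := fun x =>
      congrArg (fun φ : CommRingCat.of X ⟶ CommRingCat.of Q => φ.hom x) (h.inl_desc _ _ hw')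
    have hr2 : ∀ y, r.hom (j y) = jY y := fun y =>
      congrArg (fun φ : CommRingCat.of Y ⟶ CommRingCat.of Q => φ.hom y) (h.inr_desc _ _ hw')
    have hr : r.hom.comp θ = Ideal.Quotient.mk K := by
      apply tensor_hom_ext
      · intro x
        change r.hom (θ (x ⊗ₜ 1)) = _
        rw [hθ1, hr1, hjX]
      · intro y
        change r.hom (θ (1 ⊗ₜ y)) = _
        rw [hθ2, hr2, hjY]
    intro z hz
    rw [RingHom.mem_ker] at hz
    rw [← Ideal.Quotient.eq_zero_iff_mem, ← hr]
    change r.hom (θ z) = 0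
    rw [hz, map_zero]

end Tensor

end K405.FinAlgLim
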